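import Mathlib
import Cfsg.Agent.Lib.H21.OrbitCount

/-!
# Transitive groups of degree `p + 1` and order `(p + 1) p d` with `d < p`: basic structure
-/

set_option autoImplicit false
set_option linter.unusedSectionVars false

namespace Cfsg.Agent.Lib.H4.PPlus

open MulAction

section general

variable {S : Type*} [Group S]

theorem finite_zpowers_of_orderOf {p : ℕ} (hp : p.Prime) {x : S} (hx : orderOf x = p) :
    Finite (Subgroup.zpowers x) := by
  apply Nat.finite_of_card_ne_zero
  rw [Nat.card_zpowers, hx]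
  exact hp.ne_zero

/-- an element of prime order generates the same subgroup as any of its nontrivial powers -/
theorem zpowers_eq_of_mem {p : ℕ} (hp : p.Prime) {x w : S} (hx : orderOf x = p)
    (hw : w ∈ Subgroup.zpowers x) (hw1 : w ≠ 1) : Subgroup.zpowers w = Subgroup.zpowers x := by
  have h1 : orderOf w ∣ p := hx ▸ orderOf_dvd_of_mem_zpowers hw
  have h2 : orderOf w = p := by
    rcases (Nat.dvd_prime hp).1 h1 with h | h
    · exact absurd (orderOf_eq_one_iff.1 h) hw1
    · exact h
  have hle : Subgroup.zpowers w ≤ Subgroup.zpowers x := by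
    rw [Subgroup.zpowers_le]
    exact hw
  haveI := finite_zpowers_of_orderOf hp hx
  apply Subgroup.eq_of_le_of_card_ge hle
  rw [Nat.card_zpowers, Nat.card_zpowers, hx, h2]

/-- two elements of prime order `p` in a group of order less than `p ^ 2` generate the same
subgroup -/
theorem mem_zpowers_of_card_lt [Finite S] {p : ℕ} (hp : p.Prime) {x y : S} (hx : orderOf x = p)
    (hy : orderOf y = p) (hcard : Nat.card S < p * p) : y ∈ Subgroup.zpowers x := by
  by_contra hcon
  haveI := finite_zpowers_of_orderOf hp hx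
  haveI := finite_zpowers_of_orderOf hp hy
  let f : Subgroup.zpowers x × Subgroup.zpowers y → S := fun uv => (uv.1 : S) * (uv.2 : S)
  have hf : Function.Injective f := by
    rintro ⟨u, v⟩ ⟨u', v'⟩ h
    have h' : (u : S) * (v : S) = (u' : S) * (v' : S) := h
    have hw : ((u' : S))⁻¹ * (u : S) = (v' : S) * ((v : S))⁻¹ := by
      have e1 : (u : S) = (u' : S) * (v' : S) * ((v : S))⁻¹ := by
        rw [← h']
        group
      rw [e1]
      group
    have hwx : ((u' : S))⁻¹ * (u : S) ∈ Subgroup.zpowers x :=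
      Subgroup.mul_mem _ (Subgroup.inv_mem _ u'.2) u.2
    have hwy : ((u' : S))⁻¹ * (u : S) ∈ Subgroup.zpowers y := by
      rw [hw]
      exact Subgroup.mul_mem _ v'.2 (Subgroup.inv_mem _ v.2)
    have hw1 : ((u' : S))⁻¹ * (u : S) = 1 := by
      by_contra hne
      have e1 := zpowers_eq_of_mem hp hx hwx hne
      have e2 := zpowers_eq_of_mem hp hy hwy hne
      apply hcon
      rw [← e1, e2]
      exact Subgroup.mem_zpowers y
    have huu : (u : S) = (u' : S) := (inv_mul_eq_one.1 hw1).symm
    have hvv : (v : S) = (v' : S) := by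
      rw [hw1] at hw
      exact (mul_inv_eq_one.1 hw.symm).symm
    exact Prod.ext (Subtype.ext huu) (Subtype.ext hvv)
  have h1 := Nat.card_le_card_of_injective f hf
  rw [Nat.card_prod, Nat.card_zpowers, Nat.card_zpowers, hx, hy] at h1
  omega

end general

section perm

variable {α : Type*} [Fintype α] [DecidableEq α] {p d : ℕ} (hp : p.Prime)
  (hα : Fintype.card α = p + 1) (G : Subgroup (Equiv.Perm α)) [MulAction.IsPretransitive G α]
  (hG : Nat.card G = (p + 1) * p * d) (hd : d < p)

include hα hG in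
theorem card_stabilizer (a : α) : Nat.card (stabilizer G a) = p * d := by
  have h1 : (stabilizer G a).index = Nat.card α := index_stabilizer_of_transitive G a
  have h2 := Subgroup.index_mul_card (stabilizer G a)
  rw [h1, hG, Nat.card_eq_fintype_card, hα, mul_assoc] at h2
  exact Nat.eq_of_mul_eq_mul_left (by omega) h2

include hG in
theorem d_pos : 0 < d := by
  rcases Nat.eq_zero_or_pos d with h | h
  · rw [h, mul_zero] at hG
    have : 0 < Nat.card G := Nat.card_pos
    omega
  · exact h

/-- the data of a `p`-cycle in a point stabilizer -/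
structure IsPCyc (a : α) (x : G) : Prop where
  fix : x • a = a
  order : orderOf x = p
  moves : ∀ b : α, b ≠ a → x • b ≠ b
  trans : ∀ b c : α, b ≠ a → c ≠ a → ∃ k : ℕ, (x ^ k) • b = c

include hp hα hG in
theorem exists_pcyc (a : α) : ∃ x : G, IsPCyc (p := p) G a x := by
  haveI : Fact p.Prime := ⟨hp⟩
  have hdvd : p ∣ Nat.card (stabilizer G a) := by
    rw [card_stabilizer hα G hG a]
    exact dvd_mul_right p d
  obtain ⟨x', hx'⟩ := exists_prime_orderOf_dvd_card' (G := stabilizer G a) p hdvd
  have hxo : orderOf ((x' : G) : Equiv.Perm α) = p := by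
    rw [Subgroup.orderOf_coe, Subgroup.orderOf_coe, hx']
  have hxa : ((x' : G) : Equiv.Perm α) a = a := x'.2
  have hcyc : ((x' : G) : Equiv.Perm α).IsCycle := by
    apply Equiv.Perm.isCycle_of_prime_order'
    · rw [hxo]; exact hp
    · rw [hxo, hα]
      have := hp.two_le
      omega
  have hsupp : ((x' : G) : Equiv.Perm α).support.card = p := by
    rw [← hcyc.orderOf, hxo]
  have hsub : ((x' : G) : Equiv.Perm α).support ⊆ Finset.univ.erase a := by
    intro b hb
    rw [Finset.mem_erase]
    refine ⟨?_, Finset.mem_univ _⟩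
    rintro rfl
    exact (Equiv.Perm.mem_support.1 hb) hxa
  have heq : ((x' : G) : Equiv.Perm α).support = Finset.univ.erase a := by
    apply Finset.eq_of_subset_of_card_le hsub
    rw [Finset.card_erase_of_mem (Finset.mem_univ _), Finset.card_univ, hα, hsupp]
    omega
  have hmoves : ∀ b : α, b ≠ a → ((x' : G) : Equiv.Perm α) b ≠ b := by
    intro b hb
    rw [← Equiv.Perm.mem_support, heq, Finset.mem_erase]
    exact ⟨hb, Finset.mem_univ _⟩
  refine ⟨(x' : G), hxa, by rw [Subgroup.orderOf_coe, hx'], hmoves, ?_⟩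
  intro b c hb hc
  obtain ⟨k, hk⟩ := hcyc.exists_pow_eq (hmoves b hb) (hmoves c hc)
  exact ⟨k, hk⟩

variable {G}

/-- nonidentity elements of the group generated by a `p`-cycle move every point but one -/
theorem IsPCyc.eq_one_of_fix (hp : p.Prime) {a : α} {x : G} (hx : IsPCyc (p := p) G a x) {v : G}
    (hv : v ∈ Subgroup.zpowers x) {b : α} (hb : b ≠ a) (hvb : v • b = b) : v = 1 := by
  by_contra hv1
  have h1 := zpowers_eq_of_mem hp hx.order hv hv1
  have h2 : x ∈ Subgroup.zpowers v := by
    rw [h1]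
    exact Subgroup.mem_zpowers x
  obtain ⟨k, hk⟩ := Subgroup.mem_zpowers_iff.1 h2
  apply hx.moves b hb
  rw [← hk]
  have : ∀ n : ℕ, (v ^ n) • b = b := by
    intro n
    induction n with
    | zero => simp
    | succ n ih => rw [pow_succ, mul_smul, hvb, ih]
  have hvinv : v⁻¹ • b = b := by rw [inv_smul_eq_iff, hvb]
  have this' : ∀ n : ℕ, (v⁻¹ ^ n) • b = b := by
    intro n
    induction n with
    | zero => simp
    | succ n ih => rw [pow_succ, mul_smul, hvinv, ih]
  cases k with
  | ofNat n => simpa using this n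
  | negSucc n =>
    rw [zpow_negSucc, ← inv_pow]
    exact this' (n + 1)

include hα hG hd in
/-- the group generated by a `p`-cycle is normal in the point stabilizer -/
theorem IsPCyc.conj_mem (hp : p.Prime) {a : α} {x : G} (hx : IsPCyc (p := p) G a x) {h : G}
    (hh : h • a = a) : h * x * h⁻¹ ∈ Subgroup.zpowers x := by
  have hxs : x ∈ stabilizer G a := hx.fix
  have hys : h * x * h⁻¹ ∈ stabilizer G a := by
    rw [mem_stabilizer_iff, mul_smul, mul_smul]
    have : h⁻¹ • a = a := by rw [inv_smul_eq_iff, hh]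
    rw [this, hx.fix, hh]
  have ho1 : orderOf (⟨x, hxs⟩ : stabilizer G a) = p := by
    rw [← hx.order]
    exact Subgroup.orderOf_mk x hxs
  have ho2 : orderOf (⟨h * x * h⁻¹, hys⟩ : stabilizer G a) = p := by
    rw [Subgroup.orderOf_mk, ← hx.order]
    have : h * x * h⁻¹ = MulAut.conj h x := rfl
    rw [this, MulEquiv.orderOf_eq]
  have hfin : Finite G := Nat.finite_of_card_ne_zero (by
    rw [hG]
    have := d_pos G hG
    have := hp.pos
    positivity)
  have hc : Nat.card (stabilizer G a) < p * p := by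
    rw [card_stabilizer hα G hG a]
    exact Nat.mul_lt_mul_of_pos_left hd hp.pos
  have := mem_zpowers_of_card_lt hp ho1 ho2 hc
  obtain ⟨k, hk⟩ := Subgroup.mem_zpowers_iff.1 this
  rw [Subgroup.mem_zpowers_iff]
  refine ⟨k, ?_⟩
  have := congrArg (Subtype.val : stabilizer G a → G) hk
  simpa using this

include hα hG hd in
/-- the three point stabilizers are trivial -/
theorem IsPCyc.three (hp : p.Prime) {a : α} {x : G} (hx : IsPCyc (p := p) G a x) {b c : α}
    (hb : b ≠ a) (hc : c ≠ a) (hbc : b ≠ c) {h : G} (hha : h • a = a) (hhb : h • b = b)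
    (hhc : h • c = c) : h = 1 := by
  obtain ⟨k, hk⟩ := hx.trans b c hb hc
  have hconj : ∀ n : ℕ, h * x ^ n * h⁻¹ ∈ Subgroup.zpowers x := by
    intro n
    have : h * x ^ n * h⁻¹ = (h * x * h⁻¹) ^ n := by
      rw [conj_pow]
    rw [this]
    exact Subgroup.pow_mem _ (hx.conj_mem hα hG hd hp hha) n
  have hhinvb : h⁻¹ • b = b := by rw [inv_smul_eq_iff, hhb]
  -- `h` commutes with `u = x ^ k`
  have hcomm : h * x ^ k * h⁻¹ = x ^ k := by
    have hv : (x ^ k)⁻¹ * (h * x ^ k * h⁻¹) ∈ Subgroup.zpowers x :=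
      Subgroup.mul_mem _ (Subgroup.inv_mem _ (Subgroup.pow_mem _ (Subgroup.mem_zpowers x) k))
        (hconj k)
    have hvb : ((x ^ k)⁻¹ * (h * x ^ k * h⁻¹)) • b = b := by
      rw [mul_smul, mul_smul, mul_smul, hhinvb, hk, hhc, inv_smul_eq_iff, hk]
    have := hx.eq_one_of_fix hp hv hb hvb
    exact (inv_mul_eq_one.1 this).symm
  have hu1 : x ^ k ≠ 1 := by
    intro e
    rw [e, one_smul] at hk
    exact hbc hk
  have hzp := zpowers_eq_of_mem hp hx.order (Subgroup.pow_mem _ (Subgroup.mem_zpowers x) k) hu1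
  have hxu : x ∈ Subgroup.zpowers (x ^ k) := by
    rw [hzp]
    exact Subgroup.mem_zpowers x
  obtain ⟨j, hj⟩ := Subgroup.mem_zpowers_iff.1 hxu
  have hcx : h * x * h⁻¹ = x := by
    rw [← hj]
    have : h * (x ^ k) ^ j * h⁻¹ = (h * x ^ k * h⁻¹) ^ j := by rw [conj_zpow]
    rw [this, hcomm]
  have hcxn : ∀ n : ℕ, h * x ^ n = x ^ n * h := by
    intro n
    have : h * x ^ n * h⁻¹ = x ^ n := by
      rw [← conj_pow, hcx]
    have := congrArg (· * h) this
    simpa using this
  apply Subtype.ext
  apply Equiv.ext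
  intro e
  show h • e = e
  by_cases hea : e = a
  · rw [hea, hha]
  · obtain ⟨n, hn⟩ := hx.trans b e hb hea
    rw [← hn, ← mul_smul, hcxn, mul_smul, hhb]

variable (G)

include hp hα hG in
/-- the group is doubly transitive -/
theorem two_trans (a b c e : α) (hab : a ≠ b) (hce : c ≠ e) : ∃ g : G, g • a = c ∧ g • b = e := by
  obtain ⟨g₁, hg₁⟩ := exists_smul_eq G a c
  obtain ⟨x, hx⟩ := exists_pcyc hp hα G hG c
  have hgb : g₁ • b ≠ c := by
    rw [← hg₁]
    intro h
    exact hab (smul_left_cancel g₁ h).symm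
  obtain ⟨k, hk⟩ := hx.trans (g₁ • b) e hgb (Ne.symm hce)
  refine ⟨x ^ k * g₁, ?_, ?_⟩
  · rw [mul_smul, hg₁]
    have : ∀ n : ℕ, (x ^ n) • c = c := by
      intro n
      induction n with
      | zero => simp
      | succ n ih => rw [pow_succ, mul_smul, hx.fix, ih]
    exact this k
  · rw [mul_smul, hk]

/-- the order of a doubly transitive group -/
theorem card_eq_of_two {H Ω : Type*} [Group H] [MulAction H Ω] [Finite Ω] [Finite H]
    (h2 : ∀ a b c e : Ω, a ≠ b → c ≠ e → ∃ g : H, g • a = c ∧ g • b = e) (a b : Ω) (hab : a ≠ b) :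
    Nat.card H = Nat.card Ω * (Nat.card Ω - 1) *
      Nat.card ↥(stabilizer H a ⊓ stabilizer H b) := by
  classical
  haveI : IsPretransitive H Ω := by
    refine ⟨fun x y => ?_⟩
    by_cases hxy : x = y
    · exact ⟨1, by rw [one_smul, hxy]⟩
    · obtain ⟨g, hg, -⟩ := h2 x y y x hxy (Ne.symm hxy)
      exact ⟨g, hg⟩
  have h1 : (stabilizer H a).index = Nat.card Ω := index_stabilizer_of_transitive H a
  have h2' : (stabilizer (stabilizer H a) b).index = Nat.card Ω - 1 := by
    rw [index_stabilizer]
    have : orbit (stabilizer H a) b = {x : Ω | x ≠ a} := by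
      ext x
      constructor
      · rintro ⟨g, rfl⟩
        intro h
        have h3 : (g : H) • b = a := h
        have h4 : (g : H) • a = a := g.2
        exact hab (smul_left_cancel (g : H) (h4.trans h3.symm))
      · intro hx
        obtain ⟨g, hga, hgb⟩ := h2 a b a x hab (Ne.symm hx)
        exact ⟨⟨g, hga⟩, hgb⟩
    rw [this]
    have h5 : {x : Ω | x ≠ a} = ({a} : Set Ω)ᶜ := by
      ext x
      simp
    rw [h5]
    have := Set.ncard_compl_add_ncard ({a} : Set Ω)
    rw [Set.ncard_singleton] at this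
    omega
  have h3 : stabilizer (stabilizer H a) b = (stabilizer H b).subgroupOf (stabilizer H a) := by
    ext g
    rw [mem_stabilizer_iff, Subgroup.mem_subgroupOf, mem_stabilizer_iff]
    rfl
  have h4 : (stabilizer H a ⊓ stabilizer H b).relIndex (stabilizer H a) = Nat.card Ω - 1 := by
    rw [Subgroup.inf_relIndex_left, Subgroup.relIndex, ← h3, h2']
  have h5 := Subgroup.relIndex_mul_index
    (inf_le_left : stabilizer H a ⊓ stabilizer H b ≤ stabilizer H a)
  rw [h4, h1] at h5
  rw [← Subgroup.index_mul_card (stabilizer H a ⊓ stabilizer H b), ← h5]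
  ring

include hp hG in
theorem finite_G : Finite G :=
  Nat.finite_of_card_ne_zero (by
    rw [hG]
    have := d_pos G hG
    have := hp.pos
    positivity)

include hp hα hG in
/-- the two point stabilizers have order `d` -/
theorem card_inf (a b : α) (hab : a ≠ b) :
    Nat.card ↥(stabilizer G a ⊓ stabilizer G b) = d := by
  haveI := finite_G hp G hG
  have h1 := card_eq_of_two (two_trans hp hα G hG) a b hab
  rw [hG, Nat.card_eq_fintype_card (α := α), hα, Nat.add_sub_cancel] at h1
  have : 0 < (p + 1) * p := Nat.mul_pos (by omega) hp.pos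
  exact (Nat.eq_of_mul_eq_mul_left this h1).symm

include hp hα hG hd in
/-- nonidentity elements fix at most two points -/
theorem three (a b c : α) (hab : a ≠ b) (hbc : b ≠ c) (hac : a ≠ c) (h : G) (hha : h • a = a)
    (hhb : h • b = b) (hhc : h • c = c) : h = 1 := by
  obtain ⟨x, hx⟩ := exists_pcyc hp hα G hG a
  exact hx.three hα hG hd hp (Ne.symm hab) (Ne.symm hac) hbc hha hhb hhc

include hp hα hG hd in
/-- `d` divides `p - 1` -/
theorem d_dvd (a b : α) (hab : a ≠ b) : d ∣ p - 1 := by
  have memH : ∀ h : G, h ∈ stabilizer G a ⊓ stabilizer G b ↔ h • a = a ∧ h • b = b := by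
    intro h
    rw [Subgroup.mem_inf, mem_stabilizer_iff, mem_stabilizer_iff]
  let X : Set α := {y | y ≠ a ∧ y ≠ b}
  have hXinv : ∀ g : ↥(stabilizer G a ⊓ stabilizer G b), ∀ y ∈ X, g • y ∈ X := by
    intro g y hy
    have hg := (memH _).1 g.2
    constructor
    · intro e
      exact hy.1 (smul_left_cancel (g : G) (e.trans hg.1.symm))
    · intro e
      exact hy.2 (smul_left_cancel (g : G) (e.trans hg.2.symm))
  have hXfree : ∀ y ∈ X, stabilizer ↥(stabilizer G a ⊓ stabilizer G b) y = ⊥ := by
    intro y hy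
    rw [eq_bot_iff]
    intro g hg
    rw [Subgroup.mem_bot]
    have hg' := (memH _).1 g.2
    have e : (g : G) • y = y := hg
    exact Subtype.ext (three hp hα G hG hd a b y hab (Ne.symm hy.2) (Ne.symm hy.1) _
      hg'.1 hg'.2 e)
  have h1 := Cfsg.Agent.Lib.H21.card_dvd_ncard_of_free X (Set.toFinite X) hXinv hXfree
  have h5 : X = ({a, b} : Set α)ᶜ := by
    ext y
    simp [X]
  have h6 := Set.ncard_compl_add_ncard ({a, b} : Set α)
  rw [Set.ncard_pair hab, ← h5, Nat.card_eq_fintype_card, hα] at h6
  have : X.ncard = p - 1 := by omega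
  rwa [this, card_inf hp hα G hG a b hab] at h1

end perm

end Cfsg.Agent.Lib.H4.PPlus
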