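import Mathlib
import Cfsg.Agent.Lib.H24.SelfDualAbelian

/-!
# The field attached to a cyclic group of automorphisms of an elementary abelian group that is
transitive on the nonidentity elements
-/

set_option autoImplicit false
set_option linter.unusedSectionVars false

namespace Cfsg.Agent.Lib.H4.PPlus

universe u

theorem exists_field_of_cyclic_add {V : Type u} [AddCommGroup V] (r : ℕ) [Fact r.Prime]
    [Module (ZMod r) V] [Nontrivial V] (T : V ≃ₗ[ZMod r] V)
    (htr : ∀ v w : V, v ≠ 0 → w ≠ 0 → ∃ k : ℕ, (T ^ k) v = w) :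
    ∃ (L : Type) (_ : Field L) (_ : Algebra (ZMod r) L) (t : L) (e : L ≃ₗ[ZMod r] V),
      (∀ a, e (t * a) = T (e a)) ∧ (∀ l : L, l ≠ 0 → ∃ k : ℕ, l = t ^ k) := by
  classical
  let ρ : Representation (ZMod r) (Multiplicative ℤ) V :=
    (LinearEquiv.automorphismGroup.toLinearMapMonoidHom).comp (zpowersHom _ T)
  have hρ : ∀ (k : ℕ) (v : V), ρ (Multiplicative.ofAdd (k : ℤ)) v = (T ^ k) v := by
    intro k v
    show ((zpowersHom _ T) (Multiplicative.ofAdd (k : ℤ)) : V ≃ₗ[ZMod r] V) v = (T ^ k) v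
    rw [zpowersHom_apply, toAdd_ofAdd, zpow_natCast]
  have hρ1 : ∀ v : V, ρ (Multiplicative.ofAdd (1 : ℤ)) v = T v := by
    intro v
    have := hρ 1 v
    rw [pow_one, Nat.cast_one] at this
    exact this
  have hirr : ∀ U : Submodule (ZMod r) V,
      (∀ h : Multiplicative ℤ, ∀ u ∈ U, ρ h u ∈ U) → U = ⊥ ∨ U = ⊤ := by
    intro U hU
    by_cases hbot : U = ⊥
    · left
      exact hbot
    · right
      obtain ⟨u, hu, hu0⟩ := (Submodule.ne_bot_iff U).1 hbot
      rw [eq_top_iff]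
      intro w _
      by_cases hw : w = 0
      · rw [hw]
        exact U.zero_mem
      · obtain ⟨k, hk⟩ := htr u w hu0 hw
        rw [← hk, ← hρ]
        exact hU _ u hu
  obtain ⟨L, fL, aL, ι, e, -, he⟩ :=
    Cfsg.Agent.Lib.H24.SelfDualAbelian.exists_field_model ρ hirr
  refine ⟨L, fL, aL, ι (Multiplicative.ofAdd (1 : ℤ)), e, ?_, ?_⟩
  · intro a
    rw [he, hρ1]
  · have hpow : ∀ (k : ℕ) (a : L),
        e (ι (Multiplicative.ofAdd (1 : ℤ)) ^ k * a) = (T ^ k) (e a) := by
      intro k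
      induction k with
      | zero =>
        intro a
        simp
      | succ k ih =>
        intro a
        rw [pow_succ', mul_assoc, he, ih, pow_succ', hρ1]
        rfl
    intro l hl
    have h1 : e l ≠ 0 := by
      intro h
      exact hl (e.map_eq_zero_iff.1 h)
    have h2 : e 1 ≠ 0 := by
      intro h
      exact one_ne_zero (e.map_eq_zero_iff.1 h)
    obtain ⟨k, hk⟩ := htr (e 1) (e l) h2 h1
    refine ⟨k, ?_⟩
    apply e.injective
    rw [← hk, ← hpow, mul_one]

/-- the version for additive automorphisms -/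
theorem exists_field_of_cyclic_addEquiv {V : Type u} [AddCommGroup V] (r : ℕ) [Fact r.Prime]
    [Module (ZMod r) V] [Nontrivial V] (T : V ≃+ V)
    (htr : ∀ v w : V, v ≠ 0 → w ≠ 0 → ∃ k : ℕ, (⇑T)^[k] v = w) :
    ∃ (L : Type) (_ : Field L) (_ : Algebra (ZMod r) L) (t : L) (e : L → V),
      Function.Bijective e ∧ (∀ a b, e (a + b) = e a + e b) ∧ (∀ a, e (t * a) = T (e a)) ∧
        (∀ l : L, l ≠ 0 → ∃ k : ℕ, l = t ^ k) := by
  obtain ⟨Tl, hTl⟩ : ∃ Tl : V ≃ₗ[ZMod r] V, ∀ x : V, Tl x = T x :=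
    ⟨LinearEquiv.ofBijective (AddMonoidHom.toZModLinearMap r T.toAddMonoidHom) T.bijective,
      fun x => rfl⟩
  have hTlk : ∀ (k : ℕ) (x : V), (Tl ^ k) x = (⇑T)^[k] x := by
    intro k
    induction k with
    | zero =>
      intro x
      simp
    | succ k ih =>
      intro x
      rw [pow_succ', Function.iterate_succ_apply']
      show Tl ((Tl ^ k) x) = _
      rw [ih, hTl]
  have htr' : ∀ v w : V, v ≠ 0 → w ≠ 0 → ∃ k : ℕ, (Tl ^ k) v = w := by
    intro v w hv hw
    obtain ⟨k, hk⟩ := htr v w hv hw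
    exact ⟨k, by rw [hTlk, hk]⟩
  obtain ⟨L, fL, aL, t, e, het, hpow⟩ := exists_field_of_cyclic_add r Tl htr'
  refine ⟨L, fL, aL, t, e, e.bijective, fun a b => map_add e a b, ?_, hpow⟩
  intro a
  rw [het, hTl]

theorem exists_field_of_cyclic {Mt : Type u} [Group Mt] (hc : ∀ x y : Mt, x * y = y * x) (r : ℕ)
    [Fact r.Prime] (hexp : ∀ u : Mt, u ^ r = 1) (hnt : ∃ u : Mt, u ≠ 1) (T : Mt ≃* Mt)
    (htr : ∀ v w : Mt, v ≠ 1 → w ≠ 1 → ∃ k : ℕ, (⇑T)^[k] v = w) :
    ∃ (L : Type) (_ : Field L) (_ : Algebra (ZMod r) L) (t : L) (e : L → Mt),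
      Function.Bijective e ∧ (∀ a b, e (a + b) = e a * e b) ∧ (∀ a, e (t * a) = T (e a)) ∧
        (∀ l : L, l ≠ 0 → ∃ k : ℕ, l = t ^ k) := by
  classical
  have hexp' : ∀ x : Additive Mt, r • x = 0 := fun x => hexp (Additive.toMul x)
  have hnt' : Nontrivial (Additive Mt) := by
    obtain ⟨u, hu⟩ := hnt
    exact ⟨⟨Additive.ofMul u, Additive.ofMul 1, fun h => hu (Additive.ofMul.injective h)⟩⟩
  let Ta : Additive Mt ≃+ Additive Mt := MulEquiv.toAdditive T
  have hTa : ∀ x : Additive Mt, Ta x = Additive.ofMul (T (Additive.toMul x)) := fun x => rfl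
  have hTak : ∀ (k : ℕ) (x : Additive Mt),
      (⇑Ta)^[k] x = Additive.ofMul ((⇑T)^[k] (Additive.toMul x)) := by
    intro k
    induction k with
    | zero =>
      intro x
      rfl
    | succ k ih =>
      intro x
      rw [Function.iterate_succ_apply', Function.iterate_succ_apply', ih, hTa]
      rfl
  have htr' : ∀ v w : Additive Mt, v ≠ Additive.ofMul 1 → w ≠ Additive.ofMul 1 →
      ∃ k : ℕ, (⇑Ta)^[k] v = w := by
    intro v w hv hw
    obtain ⟨k, hk⟩ := htr (Additive.toMul v) (Additive.toMul w)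
      (fun h => hv (Additive.toMul.injective h)) (fun h => hw (Additive.toMul.injective h))
    refine ⟨k, ?_⟩
    rw [hTak, hk]
    rfl
  obtain ⟨L, fL, aL, t, e, he, hadd, het, hpow⟩ :=
    @exists_field_of_cyclic_addEquiv (Additive Mt)
      (@Additive.addCommGroup Mt { ‹Group Mt› with mul_comm := hc }) r _
      (@AddCommGroup.zmodModule r (Additive Mt)
        (@Additive.addCommGroup Mt { ‹Group Mt› with mul_comm := hc }) hexp')
      hnt' Ta htr'
  refine ⟨L, fL, aL, t, fun a => Additive.toMul (e a), ⟨?_, ?_⟩, ?_, ?_, hpow⟩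
  · intro a b hab
    exact he.1 (Additive.toMul.injective hab)
  · intro u
    obtain ⟨a, ha⟩ := he.2 (Additive.ofMul u)
    exact ⟨a, by show Additive.toMul (e a) = u; rw [ha]; rfl⟩
  · intro a b
    show Additive.toMul (e (a + b)) = _
    rw [hadd]
    rfl
  · intro a
    show Additive.toMul (e (t * a)) = _
    rw [het, hTa]
    rfl

end Cfsg.Agent.Lib.H4.PPlus
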