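import Mathlib
import Cfsg.Prelude.Def_Perm
import Cfsg.Agent.Lib.H4.PPlus.Basic
import Cfsg.Agent.Lib.H4.PPlus.FieldModel

/-!
# Transitive groups of degree `p + 1` and order `(p + 1) p d`, `d < p`, with a regular normal
subgroup are semiaffine
-/

set_option autoImplicit false
set_option linter.unusedSectionVars false

namespace Cfsg.Agent.Lib.H4.PPlus

open MulAction Cfsg

/-- transport of semiaffine permutations along a ring isomorphism -/
theorem semiaffine_transport {L L' : Type*} [Field L] [Field L'] (ι : L ≃+* L')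
    (σ : Equiv.Perm L) (hσ : σ ∈ semiaffineGroup L) :
    (ι.toEquiv.symm.trans (σ.trans ι.toEquiv)) ∈ semiaffineGroup L' := by
  obtain ⟨a, b, φ, h⟩ := hσ
  refine ⟨Units.map (ι : L →* L') a, ι b, (ι.symm.trans φ).trans ι, fun x => ?_⟩
  simp [h]

theorem exists_pow_of_mem_zpowers {S : Type*} [Group S] [Finite S] {x y : S}
    (hy : y ∈ Subgroup.zpowers x) : ∃ j : ℕ, y = x ^ j := by
  rw [← mem_powers_iff_mem_zpowers, Submonoid.mem_powers_iff] at hy
  obtain ⟨n, hn⟩ := hy
  exact ⟨n, hn.symm⟩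

section data

variable {α : Type*} [Fintype α] [DecidableEq α] {p d : ℕ}

/-- the structure obtained on the regular normal subgroup -/
theorem exists_field_data (hp : p.Prime) (hp2 : p ≠ 2) (hα : Fintype.card α = p + 1)
    (G : Subgroup (Equiv.Perm α)) [MulAction.IsPretransitive G α]
    (hG : Nat.card G = (p + 1) * p * d) (hd : d < p)
    (M : Subgroup G) [hMn : M.Normal] (hMt : ∀ y z : α, ∃ u ∈ M, u • y = z)
    (hMf : ∀ u ∈ M, ∀ a : α, u • a = a → u = 1) (a₀ : α) (x : G) (hx : IsPCyc (p := p) G a₀ x) :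
    ∃ (L : Type) (_ : Field L) (_ : Algebra (ZMod 2) L) (t : L) (E : L ≃ M),
      (∀ a b, E (a + b) = E a * E b) ∧ (∀ a, E (t * a) = MulAut.conjNormal x (E a)) ∧
        (∀ l : L, l ≠ 0 → ∃ k : ℕ, l = t ^ k) ∧ Nat.card L = p + 1 := by
  classical
  haveI := finite_G hp G hG
  have hMuniq : ∀ u ∈ M, ∀ v ∈ M, ∀ a : α, u • a = v • a → u = v := by
    intro u hu v hv a h
    have h1 : (v⁻¹ * u) • a = a := by rw [mul_smul, h, inv_smul_smul]
    have := hMf _ (M.mul_mem (M.inv_mem hv) hu) a h1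
    exact (inv_mul_eq_one.1 this).symm
  -- the order of `M`
  have hcardM : Nat.card M = p + 1 := by
    let f : M → α := fun u => (u : G) • a₀
    have hf : Function.Bijective f := by
      constructor
      · intro u v huv
        exact Subtype.ext (hMuniq u u.2 v v.2 a₀ huv)
      · intro y
        obtain ⟨u, hu, huy⟩ := hMt a₀ y
        exact ⟨⟨u, hu⟩, huy⟩
    rw [Nat.card_congr (Equiv.ofBijective f hf), Nat.card_eq_fintype_card, hα]
  -- conjugation by `x`
  have hxk : ∀ k : ℕ, (x ^ k) • a₀ = a₀ := by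
    intro k
    induction k with
    | zero => simp
    | succ k ih => rw [pow_succ, mul_smul, hx.fix, ih]
  have hTk : ∀ (k : ℕ) (m : M), (⇑(MulAut.conjNormal x : MulAut M))^[k] m =
      MulAut.conjNormal (x ^ k) m := by
    intro k
    induction k with
    | zero =>
      intro m
      simp
    | succ k ih =>
      intro m
      rw [Function.iterate_succ_apply', ih, pow_succ', map_mul, MulAut.mul_apply]
  have htr : ∀ v w : M, v ≠ 1 → w ≠ 1 →
      ∃ k : ℕ, (⇑(MulAut.conjNormal x : MulAut M))^[k] v = w := by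
    intro v w hv hw
    have hva : (v : G) • a₀ ≠ a₀ := fun h => hv (Subtype.ext (hMf v v.2 a₀ h))
    have hwa : (w : G) • a₀ ≠ a₀ := fun h => hw (Subtype.ext (hMf w w.2 a₀ h))
    obtain ⟨k, hk⟩ := hx.trans _ _ hva hwa
    refine ⟨k, ?_⟩
    rw [hTk]
    apply Subtype.ext
    apply hMuniq _ (MulAut.conjNormal (x ^ k) v).2 _ w.2 a₀
    rw [MulAut.conjNormal_apply, mul_smul, mul_smul]
    have : (x ^ k)⁻¹ • a₀ = a₀ := by rw [inv_smul_eq_iff, hxk]
    rw [this, hk]
  -- exponent two
  have h2dvd : 2 ∣ Nat.card M := by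
    rw [hcardM]
    rcases hp.eq_two_or_odd with h | h
    · exact absurd h hp2
    · omega
  haveI : Fact (Nat.Prime 2) := ⟨Nat.prime_two⟩
  obtain ⟨m₀, hm₀⟩ := exists_prime_orderOf_dvd_card' (G := M) 2 h2dvd
  have hm₀1 : m₀ ≠ 1 := by
    intro h
    rw [h, orderOf_one] at hm₀
    omega
  have hm₀2 : m₀ ^ 2 = 1 := by
    rw [← hm₀]
    exact pow_orderOf_eq_one m₀
  have hexp : ∀ u : M, u ^ 2 = 1 := by
    intro u
    by_cases hu : u = 1
    · rw [hu, one_pow]
    · obtain ⟨k, hk⟩ := htr m₀ u hm₀1 hu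
      rw [← hk, hTk, ← map_pow, hm₀2, map_one]
  have hc : ∀ u v : M, u * v = v * u := by
    intro u v
    have h1 := hexp (u * v)
    have h2 := hexp u
    have h3 := hexp v
    rw [pow_two] at h1 h2 h3
    have hu : u⁻¹ = u := inv_eq_of_mul_eq_one_left h2
    have hv : v⁻¹ = v := inv_eq_of_mul_eq_one_left h3
    have : u * v = (u * v)⁻¹ := (inv_eq_of_mul_eq_one_left h1).symm
    rw [this, mul_inv_rev, hu, hv]
  obtain ⟨L, fL, aL, t, e, he, hadd, het, hpow⟩ :=
    exists_field_of_cyclic hc 2 hexp ⟨m₀, hm₀1⟩ (MulAut.conjNormal x : MulAut M) htr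
  refine ⟨L, fL, aL, t, Equiv.ofBijective e he, hadd, het, hpow, ?_⟩
  rw [Nat.card_congr (Equiv.ofBijective e he), hcardM]

/-- the semiaffine case -/
theorem semiaffine_case (hp : p.Prime) (hp2 : p ≠ 2) (hα : Fintype.card α = p + 1)
    (G : Subgroup (Equiv.Perm α)) [MulAction.IsPretransitive G α]
    (hG : Nat.card G = (p + 1) * p * d) (hd : d < p)
    (M : Subgroup G) [hMn : M.Normal] (hMt : ∀ y z : α, ∃ u ∈ M, u • y = z)
    (hMf : ∀ u ∈ M, ∀ a : α, u • a = a → u = 1) :
    ∃ q : ℕ, q.Prime ∧ p + 1 = 2 ^ q ∧ (d = 1 ∨ d = q) ∧ ∃ e : α ≃ GaloisField 2 q,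
      ∀ g : G, (e.symm.trans (((g : Equiv.Perm α)).trans e)) ∈
        Cfsg.semiaffineGroup (GaloisField 2 q) := by
  classical
  haveI := finite_G hp G hG
  obtain ⟨a₀⟩ : Nonempty α := by
    rw [← Fintype.card_pos_iff, hα]
    omega
  obtain ⟨x, hx⟩ := exists_pcyc hp hα G hG a₀
  obtain ⟨L, fL, aL, t, E, hadd, het, hpow, hcardL⟩ :=
    exists_field_data hp hp2 hα G hG hd M hMt hMf a₀ x hx
  haveI : Finite L := Nat.finite_of_card_ne_zero (by rw [hcardL]; omega)
  have hMuniq : ∀ u ∈ M, ∀ v ∈ M, ∀ a : α, u • a = v • a → u = v := by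
    intro u hu v hv a h
    have h1 : (v⁻¹ * u) • a = a := by rw [mul_smul, h, inv_smul_smul]
    have := hMf _ (M.mul_mem (M.inv_mem hv) hu) a h1
    exact (inv_mul_eq_one.1 this).symm
  have hE0 : E 0 = 1 := by
    have := hadd 0 0
    rw [add_zero] at this
    exact (mul_eq_left.1 this.symm)
  have hEpow : ∀ (k : ℕ) (a : L), E (t ^ k * a) = MulAut.conjNormal (x ^ k) (E a) := by
    intro k
    induction k with
    | zero =>
      intro a
      simp
    | succ k ih =>
      intro a
      rw [pow_succ', mul_assoc, het, ih, pow_succ', map_mul, MulAut.mul_apply]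
  -- the conjugation maps in coordinates
  obtain ⟨ψ, hψE⟩ : ∃ ψ : G → L ≃ L, ∀ (h : G) (l : L),
      E (ψ h l) = MulAut.conjNormal h (E l) :=
    ⟨fun h => E.trans ((MulAut.conjNormal h : MulAut M).toEquiv.trans E.symm), fun h l => by
      simp⟩
  have hψadd : ∀ (h : G) (l l' : L), ψ h (l + l') = ψ h l + ψ h l' := by
    intro h l l'
    apply E.injective
    rw [hψE, hadd, map_mul, hadd, hψE, hψE]
  have hψ0 : ∀ h : G, ψ h 0 = 0 := by
    intro h
    have := hψadd h 0 0
    rw [add_zero] at this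
    exact left_eq_add.1 this
  have hψmul : ∀ (h h' : G) (l : L), ψ (h * h') l = ψ h (ψ h' l) := by
    intro h h' l
    apply E.injective
    rw [hψE, hψE, hψE, map_mul, MulAut.mul_apply]
  have hψt : ∀ h : G, h • a₀ = a₀ →
      ∃ j : ℕ, ∀ (k : ℕ) (l : L), ψ h (t ^ k * l) = (t ^ j) ^ k * ψ h l := by
    intro h hh
    obtain ⟨j, hj⟩ := exists_pow_of_mem_zpowers (hx.conj_mem hα hG hd hp hh)
    refine ⟨j, ?_⟩
    have h1 : ∀ l, ψ h (t * l) = t ^ j * ψ h l := by
      intro l
      apply E.injective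
      rw [hψE, het, hEpow, hψE, ← MulAut.mul_apply, ← MulAut.mul_apply, ← map_mul, ← map_mul]
      congr 2
      rw [← hj]
      group
    intro k
    induction k with
    | zero =>
      intro l
      simp
    | succ k ih =>
      intro l
      rw [pow_succ', mul_assoc, h1, ih, pow_succ']
      ring
  -- the labelling of the points
  let f : L → α := fun l => ((E l : M) : G) • a₀
  have hf : Function.Bijective f := by
    constructor
    · intro l l' hll
      exact E.injective (Subtype.ext (hMuniq _ (E l).2 _ (E l').2 a₀ hll))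
    · intro y
      obtain ⟨u, hu, huy⟩ := hMt a₀ y
      refine ⟨E.symm ⟨u, hu⟩, ?_⟩
      show ((E (E.symm ⟨u, hu⟩) : M) : G) • a₀ = y
      rw [Equiv.apply_symm_apply]
      exact huy
  obtain ⟨ε, hε⟩ : ∃ ε : α ≃ L, ∀ l : L, ε.symm l = ((E l : M) : G) • a₀ :=
    ⟨(Equiv.ofBijective f hf).symm, fun l => rfl⟩
  -- every element is semiaffine
  have hsemi : ∀ g : G, (ε.symm.trans (((g : Equiv.Perm α)).trans ε)) ∈ semiaffineGroup L := by
    intro g
    obtain ⟨m', hm'M, hm'⟩ := hMt a₀ (g • a₀)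
    have hh : (m'⁻¹ * g) • a₀ = a₀ := by
      rw [mul_smul, inv_smul_eq_iff, hm']
    have hhinv : (m'⁻¹ * g)⁻¹ • a₀ = a₀ := by
      rw [inv_smul_eq_iff, hh]
    obtain ⟨j, hj⟩ := hψt _ hh
    obtain ⟨b, hb⟩ : ∃ b : L, E b = ⟨m', hm'M⟩ := ⟨E.symm ⟨m', hm'M⟩, Equiv.apply_symm_apply _ _⟩
    have hkey : ∀ l : L, ε (g • ε.symm l) = ψ (m'⁻¹ * g) l + b := by
      intro l
      rw [← Equiv.eq_symm_apply, hε, hε, add_comm, hadd, hb, hψE, Subgroup.coe_mul,
        MulAut.conjNormal_apply, mul_smul, mul_smul, mul_smul, hhinv, ← mul_smul, ← mul_smul,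
        ← mul_assoc, mul_inv_cancel, one_mul, mul_smul]
    obtain ⟨s, hs⟩ : ∃ s : L, s = ψ (m'⁻¹ * g) 1 := ⟨_, rfl⟩
    have hs0 : s ≠ 0 := by
      rw [hs]
      intro h
      rw [← hψ0 (m'⁻¹ * g)] at h
      exact one_ne_zero ((ψ (m'⁻¹ * g)).injective h)
    have hψpow : ∀ k : ℕ, ψ (m'⁻¹ * g) (t ^ k) = (t ^ j) ^ k * s := by
      intro k
      have := hj k 1
      rw [mul_one, ← hs] at this
      exact this
    let φf : L →+* L :=
      { toFun := fun l => s⁻¹ * ψ (m'⁻¹ * g) l
        map_one' := by rw [← hs, inv_mul_cancel₀ hs0]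
        map_mul' := by
          intro l l'
          by_cases hl : l = 0
          · rw [hl, zero_mul, hψ0, mul_zero, zero_mul]
          · obtain ⟨k, rfl⟩ := hpow l hl
            rw [hj, hψpow]
            field_simp
        map_zero' := by rw [hψ0, mul_zero]
        map_add' := by
          intro l l'
          rw [hψadd, mul_add] }
    have hφf : ∀ l, φf l = s⁻¹ * ψ (m'⁻¹ * g) l := fun l => rfl
    have hφbij : Function.Bijective φf := by
      constructor
      · intro l l' hll
        rw [hφf, hφf] at hll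
        exact (ψ (m'⁻¹ * g)).injective (mul_left_cancel₀ (inv_ne_zero hs0) hll)
      · intro y
        obtain ⟨l, hl⟩ := (ψ (m'⁻¹ * g)).surjective (s * y)
        refine ⟨l, ?_⟩
        rw [hφf, hl, ← mul_assoc, inv_mul_cancel₀ hs0, one_mul]
    refine ⟨Units.mk0 s hs0, b, RingEquiv.ofBijective φf hφbij, fun l => ?_⟩
    show ε (g • ε.symm l) = s * φf l + b
    rw [hkey, hφf, ← mul_assoc, mul_inv_cancel₀ hs0, one_mul]
  -- the degree
  obtain ⟨q, hq⟩ : ∃ q : ℕ, q = Module.finrank (ZMod 2) L := ⟨_, rfl⟩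
  have hcardq : Nat.card L = 2 ^ q := by
    rw [hq, Module.natCard_eq_pow_finrank (K := ZMod 2) (V := L), Nat.card_zmod]
  have hpq : p + 1 = 2 ^ q := by rw [← hcardL, hcardq]
  have hqprime : q.Prime := by
    have h1 : q ≠ 1 := by
      rintro rfl
      have := hp.two_le
      omega
    have h2 : (2 ^ q - 1).Prime := by
      have : 2 ^ q - 1 = p := by omega
      rw [this]
      exact hp
    exact (Nat.prime_of_pow_sub_one_prime h1 h2).2
  -- the order of the two point stabilizer
  obtain ⟨b₀, hb₀⟩ : ∃ b₀ : α, b₀ = ε.symm 1 := ⟨_, rfl⟩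
  have hb₀a : a₀ ≠ b₀ := by
    rw [hb₀, hε]
    intro h
    have h1 := hMf _ (E 1).2 a₀ h.symm
    have h2 : E 1 = E 0 := by
      rw [hE0]
      exact Subtype.ext h1
    exact one_ne_zero (E.injective h2)
  have hdq : d = 1 ∨ d = q := by
    have memH : ∀ h : G, h ∈ stabilizer G a₀ ⊓ stabilizer G b₀ ↔ h • a₀ = a₀ ∧ h • b₀ = b₀ := by
      intro h
      rw [Subgroup.mem_inf, mem_stabilizer_iff, mem_stabilizer_iff]
    have hΦex : ∀ h : ↥(stabilizer G a₀ ⊓ stabilizer G b₀),
        ∃ φ : L ≃ₐ[ZMod 2] L, ∀ l, φ l = ψ (h : G) l := by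
      intro h
      obtain ⟨hha, hhb⟩ := (memH _).1 h.2
      have hhinv : ((h : G))⁻¹ • a₀ = a₀ := by rw [inv_smul_eq_iff, hha]
      obtain ⟨j, hj⟩ := hψt _ hha
      have h1 : ψ (h : G) 1 = 1 := by
        apply E.injective
        rw [hψE]
        apply Subtype.ext
        apply hMuniq _ (MulAut.conjNormal (h : G) (E 1)).2 _ (E 1).2 a₀
        rw [MulAut.conjNormal_apply, mul_smul, mul_smul, hhinv, ← hε, ← hb₀, hhb]
      have hψpow : ∀ k : ℕ, ψ (h : G) (t ^ k) = (t ^ j) ^ k := by
        intro k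
        have := hj k 1
        rw [mul_one, h1, mul_one] at this
        exact this
      let φf : L →+* L :=
        { toFun := fun l => ψ (h : G) l
          map_one' := h1
          map_mul' := by
            intro l l'
            by_cases hl : l = 0
            · rw [hl, zero_mul, hψ0, zero_mul]
            · obtain ⟨k, rfl⟩ := hpow l hl
              rw [hj, hψpow]
          map_zero' := hψ0 _
          map_add' := hψadd _ }
      have hφbij : Function.Bijective φf := (ψ (h : G)).bijective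
      refine ⟨AlgEquiv.ofRingEquiv (f := RingEquiv.ofBijective φf hφbij) ?_, fun l => rfl⟩
      intro r
      exact RingHom.congr_fun (Subsingleton.elim
        (((RingEquiv.ofBijective φf hφbij : L ≃+* L) : L →+* L).comp (algebraMap (ZMod 2) L))
        (algebraMap (ZMod 2) L)) r
    choose Φf hΦf using hΦex
    let Φ : ↥(stabilizer G a₀ ⊓ stabilizer G b₀) →* (L ≃ₐ[ZMod 2] L) :=
      MonoidHom.mk' Φf (by
        intro h h'
        ext l
        rw [AlgEquiv.mul_apply, hΦf, hΦf, hΦf, Subgroup.coe_mul, hψmul])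
    have hΦinj : Function.Injective Φ := by
      rw [injective_iff_map_eq_one]
      intro h hh
      obtain ⟨hha, hhb⟩ := (memH _).1 h.2
      have hhinv : ((h : G))⁻¹ • a₀ = a₀ := by rw [inv_smul_eq_iff, hha]
      have h1 : ∀ l, ψ (h : G) l = l := by
        intro l
        rw [← hΦf]
        show Φ h l = l
        rw [hh]
        rfl
      apply Subtype.ext
      apply Subtype.ext
      apply Equiv.ext
      intro y
      show (h : G) • y = y
      obtain ⟨l, rfl⟩ := ε.symm.surjective y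
      have h2 := hψE (h : G) l
      rw [h1] at h2
      have h3 : ((E l : M) : G) = (h : G) * ((E l : M) : G) * ((h : G))⁻¹ := by
        conv_lhs => rw [h2]
        rfl
      rw [hε]
      conv_rhs => rw [h3]
      rw [mul_smul, mul_smul, hhinv]
    have h1 := Subgroup.card_dvd_of_injective Φ hΦinj
    rw [IsGalois.card_aut_eq_finrank, ← hq, card_inf hp hα G hG a₀ b₀ hb₀a] at h1
    exact (Nat.dvd_prime hqprime).1 h1
  -- transport to the Galois field
  let ι : L ≃ₐ[ZMod 2] GaloisField 2 q := GaloisField.algEquivGaloisField 2 q hcardq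
  refine ⟨q, hqprime, hpq, hdq, ε.trans ι.toEquiv, fun g => ?_⟩
  have := semiaffine_transport ι.toRingEquiv _ (hsemi g)
  convert this using 1
  ext y
  rfl

end data

end Cfsg.Agent.Lib.H4.PPlus
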