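import Mathlib
import Cfsg.Agent.Lib.H4.PPlus.Basic
import Cfsg.Agent.Lib.H5.PSL2Iso
import Cfsg.Agent.S0727
import Cfsg.Agent.S0730

/-!
# Transitive groups of degree `p + 1` and order `(p + 1) p (p - 1)` are `PGL₂(p)`
-/

set_option autoImplicit false
set_option linter.unusedSectionVars false

namespace Cfsg.Agent.Lib.H4.PPlus

open MulAction

/-- a doubly transitive group with trivial three point stabilizers and two point stabilizers of
order `n - 2` is sharply triply transitive -/
theorem sharp_three_of_two {G Ω : Type*} [Group G] [Finite G] [MulAction G Ω] [Finite Ω]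
    (h2 : ∀ a b c e : Ω, a ≠ b → c ≠ e → ∃ g : G, g • a = c ∧ g • b = e)
    (h3 : ∀ a b c : Ω, a ≠ b → b ≠ c → a ≠ c → ∀ h : G, h • a = a → h • b = b → h • c = c → h = 1)
    {a b : Ω} (hab : a ≠ b)
    (he : Nat.card ↥(stabilizer G a ⊓ stabilizer G b) = Nat.card Ω - 2) :
    MulAction.IsMultiplyPretransitive G Ω 3 ∧ ∀ t : Fin 3 ↪ Ω, MulAction.stabilizer G t = ⊥ := by
  classical
  haveI : Fintype Ω := Fintype.ofFinite Ω
  have hn2 : 2 ≤ Nat.card Ω := by
    rw [Nat.card_eq_fintype_card]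
    exact Fintype.one_lt_card_iff.2 ⟨a, b, hab⟩
  have key : ∀ c d : Ω, c ≠ d → ∀ y z : Ω, y ≠ c → y ≠ d → z ≠ c → z ≠ d →
      ∃ h : G, h • c = c ∧ h • d = d ∧ h • y = z := by
    intro c d hcd y z hyc hyd hzc hzd
    have hcard : Nat.card ↥(stabilizer G c ⊓ stabilizer G d) = Nat.card Ω - 2 := by
      have e1 := card_eq_of_two h2 a b hab
      have e2 := card_eq_of_two h2 c d hcd
      rw [e1] at e2
      have hpos : 0 < Nat.card Ω * (Nat.card Ω - 1) := Nat.mul_pos (by omega) (by omega)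
      rw [← he]
      exact (Nat.eq_of_mul_eq_mul_left hpos e2).symm
    have memH : ∀ h : G, h ∈ stabilizer G c ⊓ stabilizer G d ↔ h • c = c ∧ h • d = d := by
      intro h
      rw [Subgroup.mem_inf, mem_stabilizer_iff, mem_stabilizer_iff]
    let f : ↥(stabilizer G c ⊓ stabilizer G d) → {w : Ω // w ≠ c ∧ w ≠ d} := fun h =>
      ⟨(h : G) • y, by
        have hh := (memH _).1 h.2
        constructor
        · intro e
          exact hyc (smul_left_cancel (h : G) (e.trans hh.1.symm))
        · intro e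
          exact hyd (smul_left_cancel (h : G) (e.trans hh.2.symm))⟩
    have hf : Function.Injective f := by
      intro h h' hhh
      have e1 : (h : G) • y = (h' : G) • y := congrArg Subtype.val hhh
      have hh := (memH _).1 h.2
      have hh' := (memH _).1 h'.2
      have e2 : ((h' : G)⁻¹ * (h : G)) = 1 := by
        apply h3 c d y hcd (Ne.symm hyd) (Ne.symm hyc)
        · rw [mul_smul, hh.1, inv_smul_eq_iff, hh'.1]
        · rw [mul_smul, hh.2, inv_smul_eq_iff, hh'.2]
        · rw [mul_smul, e1, inv_smul_smul]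
      apply Subtype.ext
      exact (inv_mul_eq_one.1 e2).symm
    have hcardX : Nat.card {w : Ω // w ≠ c ∧ w ≠ d} = Nat.card Ω - 2 := by
      have h5 : {w : Ω | w ≠ c ∧ w ≠ d} = ({c, d} : Set Ω)ᶜ := by
        ext w
        simp
      have h6 := Set.ncard_compl_add_ncard ({c, d} : Set Ω)
      rw [Set.ncard_pair hcd, ← h5] at h6
      have h7 : Nat.card {w : Ω // w ≠ c ∧ w ≠ d} = {w : Ω | w ≠ c ∧ w ≠ d}.ncard := rfl
      omega
    have hbij : Function.Bijective f := by
      rw [Nat.bijective_iff_injective_and_card]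
      exact ⟨hf, by rw [hcard, hcardX]⟩
    obtain ⟨h, hh⟩ := hbij.2 ⟨z, hzc, hzd⟩
    have := (memH _).1 h.2
    exact ⟨h, this.1, this.2, congrArg Subtype.val hh⟩
  constructor
  · rw [MulAction.isMultiplyPretransitive_iff]
    intro t t'
    have h01 : t 0 ≠ t 1 := t.injective.ne (by decide)
    have h02 : t 0 ≠ t 2 := t.injective.ne (by decide)
    have h12 : t 1 ≠ t 2 := t.injective.ne (by decide)
    have h01' : t' 0 ≠ t' 1 := t'.injective.ne (by decide)
    have h02' : t' 0 ≠ t' 2 := t'.injective.ne (by decide)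
    have h12' : t' 1 ≠ t' 2 := t'.injective.ne (by decide)
    obtain ⟨g, hg0, hg1⟩ := h2 _ _ _ _ h01 h01'
    have hy0 : g • t 2 ≠ t' 0 := by
      rw [← hg0]
      intro e
      exact h02 (smul_left_cancel g e).symm
    have hy1 : g • t 2 ≠ t' 1 := by
      rw [← hg1]
      intro e
      exact h12 (smul_left_cancel g e).symm
    obtain ⟨h, hh0, hh1, hh2⟩ := key _ _ h01' (g • t 2) (t' 2) hy0 hy1 h02'.symm h12'.symm
    refine ⟨h * g, ?_⟩
    ext i
    fin_cases i
    · show (h * g) • t 0 = t' 0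
      rw [mul_smul, hg0, hh0]
    · show (h * g) • t 1 = t' 1
      rw [mul_smul, hg1, hh1]
    · show (h * g) • t 2 = t' 2
      rw [mul_smul, hh2]
  · intro t
    rw [eq_bot_iff]
    intro g hg
    rw [Subgroup.mem_bot]
    rw [mem_stabilizer_iff] at hg
    have h01 : t 0 ≠ t 1 := t.injective.ne (by decide)
    have h02 : t 0 ≠ t 2 := t.injective.ne (by decide)
    have h12 : t 1 ≠ t 2 := t.injective.ne (by decide)
    have hgi : ∀ i, g • t i = t i := fun i => by
      conv_rhs => rw [← hg]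
      rfl
    exact h3 _ _ _ h01 h12 h02 g (hgi 0) (hgi 1) (hgi 2)

variable {α : Type*} [Fintype α] [DecidableEq α] {p d : ℕ}

/-- the case `d = p - 1` -/
theorem nonempty_PGL (hp : p.Prime) (hα : Fintype.card α = p + 1)
    (G : Subgroup (Equiv.Perm α)) [MulAction.IsPretransitive G α]
    (hG : Nat.card G = (p + 1) * p * d) (hd : d < p) (hd1 : d = p - 1) :
    Nonempty (G ≃* Matrix.ProjGenLinGroup (Fin 2) (ZMod p)) := by
  haveI := finite_G hp G hG
  obtain ⟨a, b, hab⟩ : ∃ a b : α, a ≠ b := by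
    apply Fintype.one_lt_card_iff.1
    rw [hα]
    have := hp.pos
    omega
  have hsh := sharp_three_of_two (two_trans hp hα G hG)
    (fun a b c hab hbc hac h => three hp hα G hG hd a b c hab hbc hac h) hab (by
      rw [card_inf hp hα G hG a b hab, Nat.card_eq_fintype_card, hα, hd1]
      omega)
  obtain ⟨F, fF, ftF, hFcard, ⟨φ⟩⟩ : ∃ (F : Type) (_ : Field F) (_ : Fintype F),
      Fintype.card F = p ∧ Nonempty (G ≃* Matrix.ProjGenLinGroup (Fin 2) F) := by
    by_cases hp2 : p = 2
    · subst hp2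
      obtain ⟨F, fF, ftF, hFc, hiso⟩ := Cfsg.Agent.S0727.result (f := 1) le_rfl
        (by rw [hα, pow_one]) G hsh.1 hsh.2
      exact ⟨F, fF, ftF, by rw [hFc, pow_one], hiso⟩
    · obtain ⟨F, fF, ftF, hFc, hiso⟩ := Cfsg.Agent.S0730.result (f := 1) hp hp2 odd_one
        (by rw [hα, pow_one]) G hsh.1 hsh.2
      exact ⟨F, fF, ftF, by rw [hFc, pow_one], hiso⟩
  let ψ : ZMod p ≃+* F := ZMod.ringEquivOfPrime F hp hFcard
  exact ⟨φ.trans (Cfsg.Agent.Lib.H5.PSL2Iso.pglMapEquiv ψ.symm)⟩

end Cfsg.Agent.Lib.H4.PPlus
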