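import Mathlib
import Cfsg.Agent.Lib.H4.PPlus.Basic
import Cfsg.Agent.Lib.H4.Feit.ZasAbelian

/-!
# Transitive groups of degree `p + 1` and order `(p + 1) p d`, `1 < d < p`, without regular
normal subgroups
-/

set_option autoImplicit false
set_option linter.unusedSectionVars false

namespace Cfsg.Agent.Lib.H4.PPlus

open MulAction Cfsg Cfsg.Agent.Lib.H2.Zass Cfsg.Agent.Lib.H4.Zas Cfsg.Agent.Lib.H4.Feit

variable {α : Type*} [Fintype α] [DecidableEq α] {p d : ℕ}

theorem zassenhaus_case (hp : p.Prime) (hα : Fintype.card α = p + 1)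
    (G : Subgroup (Equiv.Perm α)) [MulAction.IsPretransitive G α]
    (hG : Nat.card G = (p + 1) * p * d) (hd : d < p) (hd1 : 1 < d) (hR : NoReg G α) :
    d = p - 1 ∨ (2 * d = p - 1 ∧
      Nonempty (G ≃* Matrix.ProjectiveSpecialLinearGroup (Fin 2) (ZMod p))) := by
  haveI := finite_G hp G hG
  obtain ⟨a, b, hab⟩ : ∃ a b : α, a ≠ b := by
    apply Fintype.one_lt_card_iff.1
    rw [hα]
    have := hp.pos
    omega
  have hcard := card_inf hp hα G hG a b hab
  have hP : Pre G α :=
    { faithful := by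
        intro g hg
        apply Subtype.ext
        apply Equiv.ext
        intro x
        exact hg x
      two := two_trans hp hα G hG
      three := by
        intro g a b c hab hbc hac ha hb hc
        exact three hp hα G hG hd a b c hab hbc hac g ha hb hc
      fix := by
        haveI : Nontrivial ↥(stabilizer G a ⊓ stabilizer G b) := by
          rw [← Finite.one_lt_card_iff_nontrivial, hcard]
          exact hd1
        obtain ⟨g, hg⟩ := exists_ne (1 : ↥(stabilizer G a ⊓ stabilizer G b))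
        have hg' := g.2
        rw [Subgroup.mem_inf, mem_stabilizer_iff, mem_stabilizer_iff] at hg'
        exact ⟨g, fun h => hg (Subtype.ext h), a, b, hab, hg'.1, hg'.2⟩ }
  have hZ := Reduce.zassenhaus_of_pre hP hR
  obtain ⟨x, hx⟩ := exists_pcyc hp hα G hG a
  have hFle : Subgroup.zpowers x ≤ stabilizer G a := by
    rw [Subgroup.zpowers_le]
    exact hx.fix
  have hFab : ∀ u ∈ Subgroup.zpowers x, ∀ v ∈ Subgroup.zpowers x, u * v = v * u := by
    intro u hu v hv
    obtain ⟨i, rfl⟩ := Subgroup.mem_zpowers_iff.1 hu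
    obtain ⟨j, rfl⟩ := Subgroup.mem_zpowers_iff.1 hv
    rw [← zpow_add, ← zpow_add, add_comm]
  have hreg : ∀ y z : α, y ≠ a → z ≠ a → ∃! u : Subgroup.zpowers x, (u : G) • y = z := by
    intro y z hy hz
    obtain ⟨k, hk⟩ := hx.trans y z hy hz
    refine ⟨⟨x ^ k, Subgroup.pow_mem _ (Subgroup.mem_zpowers x) k⟩, hk, ?_⟩
    intro v hv
    apply Subtype.ext
    have h1 : ((x ^ k)⁻¹ * (v : G)) • y = y := by
      rw [mul_smul, hv, inv_smul_eq_iff, hk]
    have h2 := hx.eq_one_of_fix hp (Subgroup.mul_mem _ (Subgroup.inv_mem _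
      (Subgroup.pow_mem _ (Subgroup.mem_zpowers x) k)) v.2) hy h1
    exact (inv_mul_eq_one.1 h2).symm
  rcases zassenhaus_abelian_kernel hZ hab (Subgroup.zpowers x) hFle hFab hreg with h | ⟨h1, h2⟩
  · left
    rw [hcard, Nat.card_eq_fintype_card, hα] at h
    omega
  · right
    rw [hcard, Nat.card_eq_fintype_card, hα] at h1
    refine ⟨by omega, ?_⟩
    obtain ⟨K, fK, ftK, hKcard, -, ⟨φ⟩⟩ := h2
    rw [Nat.card_eq_fintype_card, hα] at hKcard
    have hKp : Fintype.card K = p := by omega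
    let ψ : ZMod p ≃+* K := ZMod.ringEquivOfPrime K hp hKp
    obtain ⟨ψ'⟩ := nonempty_PSL_congr (n := Fin 2) ψ.symm
    exact ⟨φ.trans ψ'⟩

end Cfsg.Agent.Lib.H4.PPlus
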